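import Cfsg.Agent.H0.TC
set_option maxRecDepth 100000
namespace H0.TCM11p1
open H0
noncomputable def r0 : TC.WTr := (.node (.node (.node (.node (.node (.node (.leaf [0] 0 0 false) (.leaf [9] 9 1 false)) (.leaf [3, 7] 20 1 true)) (.node (.leaf [2, 2, 2] 25 0 true) (.leaf [7] 7 1 false))) (.node (.node (.leaf [1, 1, 1] 25 0 false) (.leaf [0, 1, 0, 2, 0, 2, 0] 27 7 false)) (.node (.leaf [3] 3 1 false) (.leaf [9, 9, 9] 12 0 false)))) (.node (.node (.node (.leaf [3, 6, 0, 9, 0, 2] 34 6 true) (.leaf [5] 5 1 false)) (.node (.leaf [3, 3, 3] 18 0 false) (.leaf [7] 7 1 false))) (.node (.node (.leaf [1] 1 1 false) (.leaf [1, 0, 3, 5, 5, 0] 32 4 true)) (.node (.leaf [3] 3 1 false) (.leaf [9] 9 1 false))))) (.node (.node (.node (.node (.leaf [7, 0, 10, 4, 0, 8] 33 2 false) (.leaf [6] 5 0 false)) (.node (.leaf [4] 3 0 false) (.leaf [4, 6] 20 2 false))) (.node (.node (.leaf [2] 1 0 false) (.leaf [8] 7 0 false))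 (.node (.leaf [6, 8] 20 0 false) (.leaf [10] 9 0 false)))) (.node (.node (.node (.leaf [2] 1 0 false) (.leaf [4, 0, 2, 8, 0, 6] 32 5 false)) (.node (.leaf [4] 3 0 false) (.leaf [10] 9 0 false))) (.node (.node (.leaf [0, 3, 6, 0, 9, 0] 34 5 true) (.leaf [8] 7 0 false)) (.node (.leaf [6] 5 0 false) (.leaf [6, 0, 6, 3, 0] 31 3 true))))))
noncomputable def r1 : TC.WTr := (.node (.node (.node (.node (.node (.node (.leaf [5, 4, 0, 1, 0, 10] 34 4 false) (.leaf [9] 9 1 false)) (.leaf [4, 0, 1, 0, 10, 0] 34 5 false)) (.node (.leaf [1] 1 1 false) (.leaf [0, 6, 6, 4, 0, 2] 32 2 false))) (.node (.node (.leaf [2] 1 0 false) (.leaf [4, 5, 10] 21 0 false)) (.node (.leaf [2] 26 1 false) (.leaf [9, 8, 8] 16 0 true)))) (.node (.node (.node (.leaf [0] 0 0 false) (.leaf [3, 0, 10, 6, 0] 31 0 true)) (.node (.leaf [5, 5, 0, 7, 1, 0] 32 0 true) (.leaf [7] 7 1 false))) (.node (.node (.leaf [4] 26 0 false) (.leaf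 [10, 10, 7] 16 1 false)) (.node (.leaf [3] 3 1 false) (.leaf [6, 4, 5] 21 3 false))))) (.node (.node (.node (.node (.leaf [2, 0, 3, 6, 0, 9] 34 4 true) (.leaf [6] 5 0 false)) (.node (.leaf [1] 26 0 true) (.leaf [8, 8, 8] 11 0 true))) (.node (.node (.leaf [2] 1 0 false) (.leaf [5, 3] 20 0 true)) (.node (.leaf [4, 4, 4] 18 0 true) (.leaf [10] 9 0 false)))) (.node (.node (.node (.leaf [3] 26 1 true) (.leaf [3, 5, 9] 21 1 true)) (.node (.leaf [4] 3 0 false) (.leaf [6, 3, 5] 21 0 true))) (.node (.node (.leaf [0, 6, 0, 1, 0, 2, 0] 27 5 false) (.leaf [8] 7 0 false)) (.node (.leaf [5, 5, 5] 19 0 false) (.leaf [4, 0, 8, 0, 7, 0] 33 5 false))))))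
noncomputable def tS : Tr := (.leaf (nat_lit 0xff8b958b956a872da86c1975ff5d697c74303a9f865e7717ff735d74545f4c3f2a162b81ff0b52807f43636a74606a20ff626b3e0b8157223b273623ff3e3361760b49942d2d6c54ff6b6c1f3e543e1f39390b26ff604a354b3533391f0b252eff401a192b2a182a2b171600ff0000000000000000140a0b))
noncomputable def tJ : Tr := (.leaf (nat_lit 0x10301000104e400200240333082001210001920a072003310203702337522000260110371001011000100012070200020200170000000010000070066666666010))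
noncomputable def tQ : Tr := (.leaf (nat_lit 0x0))
noncomputable def tR : TC.WTr := (.node r0 r1)
def hl : List ℕ := [3, 4, 4, 3, 5, 6, 6, 5, 7, 8, 8, 7, 9, 10, 10, 9]
def B : List (List ℕ) := [[0, 0], [1, 2], [2, 1], [3, 4], [4, 3], [5, 6], [6, 5], [7, 8], [8, 7], [9, 10], [10, 9], [7, 7, 7, 7], [9, 9, 9, 9], [7, 9, 7, 9, 7, 9, 7, 9], [7, 9, 8, 10, 7, 9, 8, 10], [7, 10, 7, 10, 7, 10, 7, 10], [7, 7, 10, 10], [7, 9, 7, 10], [3, 3, 3, 3], [5, 5, 5, 5], [4, 6, 8], [6, 4, 5, 10], [3, 5, 3, 5, 3, 5, 3, 5], [3, 5, 4, 6, 3, 5, 4, 6], [3, 6, 3, 6, 3, 6, 3, 6], [1, 1, 1, 1], [2, 4], [0, 1, 0, 2, 0, 2, 0, 6], [0, 1, 0, 1, 0, 1, 0, 1, 0, 1, 0, 1, 0, 1, 0, 1], [0, 1, 0, 2, 0, 1, 0, 2, 0, 1, 0, 2], [0, 2, 0, 2, 0, 2, 0, 2, 0, 2, 0, 2, 0, 2, 0, 2], [0, 5, 9, 0, 4, 5], [0, 2, 8, 0, 6, 6, 4], [0, 8, 0, 7, 0, 10, 4], [0, 1, 0, 10, 0, 5, 4]]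
def subs : List (List ℕ) := [[3], [4], [5], [6], [7], [8], [9], [10]]
def ex : List (List ℕ) := []
def inv (x : ℕ) : ℕ := [0, 2, 1, 4, 3, 6, 5, 8, 7, 10, 9].getD x 0
noncomputable def rS : ℕ → ℕ := rowOf tS (nat_lit 7) (nat_lit 127) (nat_lit 96) (nat_lit 79228162514264337593543950335)
noncomputable def rJ : ℕ → ℕ := rowOf tJ (nat_lit 7) (nat_lit 127) (nat_lit 52) (nat_lit 4503599627370495)
noncomputable def C : TC.Cfg where
  S := look rS (nat_lit 8) (nat_lit 255)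
  J := look rJ (nat_lit 4) (nat_lit 15)
  Q := lookQ tQ (nat_lit 7) (nat_lit 1) (nat_lit 1)
  R := tR.get
  hl := fun x => hl.contains x
  n := (nat_lit 10)
  M := (nat_lit 10)
  top := (nat_lit 170)
  nl := (nat_lit 11)
  need := (nat_lit 11)
  nr := (nat_lit 6)
theorem k0 : TC.chkRange C 0 1 = true := by decide +kernel
theorem rows0 : ∀ c < (0 + 1) * 64, c < C.M → TC.chkRow C c = true :=
  TC.rows_step (TC.rows_zero C) k0
theorem main {G : Type*} [Group G] (g : ℕ → G) (hB : ∀ r ∈ B, ev g r = 1) (H : Subgroup G)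
    (hH : ∀ w ∈ subs, ev g w ∈ H) :
    H.relIndex (Subgroup.closure (g '' {x | x < 11})) ≠ 0 ∧
      H.relIndex (Subgroup.closure (g '' {x | x < 11})) ≤ 10 :=
  TC.index_le C B subs ex inv hl tR.hint rfl (by decide +kernel) (by decide +kernel)
    (TC.rows_done rows0 (by decide +kernel)) g hB H hH
end H0.TCM11p1
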